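import Cfsg.Agent.H939.L16.Def

/-!
# S5916 (helper955): the equations of the families and the generic vectors

`vR`, `vN` : the solutions of `[v, t v] = 0` in the weight spaces 1 and 3 (with the product relations `RelR`, `RelN`).
`SS1, INV1` (type `(0)`), `SS2, INV2, SIG` (type `(0,1)`), `SS2, RAT` (type `(0,2)`), `SS3, SA, SB` (type `(0,1,2)`).
`true` is the index `+`.
-/

set_option autoImplicit false

namespace Cfsg.Agent.H955.L16

open Cfsg.Agent.H939.L64 (KK LK brK)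
open Cfsg.Agent.H413.L16 (er)
open Cfsg.Agent.H939.L16

/-- generic solution of weight 1 -/
noncomputable def vR (k o1 o3 r1 r2 r3 r0 : KK) : LK :=
  k • er 128 + o1 • (er 127 + er 131) + o3 • (er 136 + er 163) + r1 • er 147 + r2 • er 137 + r3 • er 143 + r0 • er 148

/-- the relations of `vR` -/
def RelR (o1 o3 r1 r3 : KK) : Prop := o1 * r1 = 0 ∧ o1 * o3 = 0 ∧ o3 * r3 = 0

/-- generic solution of weight 3 -/
noncomputable def vN (K1 K2 A A2 B : KK) : LK :=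
  K1 • er 157 + K2 • er 172 + A • (er 2 + er 154) + A2 • (er 129 + er 156) + B • (er 2 + er 167)

/-- `t0` -/
noncomputable def T (ta : LK →ₗ[KK] LK) (v : LK) : LK := iz (ta v)

/-! ### families with one index -/

def SS1 (s : Bool → LK) : Prop := ∀ a b, brK (s a) (s b) = 0

/-- `z a b = [s a, F² s b]`, `[z ++, z --] + [z +-, z -+] = 0` -/
def INV1 (Fp : LK → LK) (s : Bool → LK) : Prop :=
  brK (brK (s true) (Fp (Fp (s true)))) (brK (s false) (Fp (Fp (s false)))) +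
    brK (brK (s true) (Fp (Fp (s false)))) (brK (s false) (Fp (Fp (s true)))) = 0

/-! ### families with two indices -/

def SS2 (s : Bool → Bool → LK) : Prop := ∀ a b c d, brK (s a b) (s c d) = 0

/-- `z a b c d = [s a b, F² s c d]`, the quadratic invariant is zero -/
def INV2 (Fp : LK → LK) (s : Bool → Bool → LK) : Prop :=
  ∑ b : Bool, ∑ c : Bool, ∑ d : Bool,
    brK (brK (s true b) (Fp (Fp (s c d)))) (brK (s false (!b)) (Fp (Fp (s (!c) (!d))))) = 0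

noncomputable def sg (Fp : LK → LK) (s : Bool → Bool → LK) (a d : Bool) : LK := ∑ b : Bool, brK (s a b) (Fp (s (!b) d))

/-- the quadratic invariant of `sg` -/
def SIG (Fp : LK → LK) (s : Bool → Bool → LK) : Prop :=
  brK (sg Fp s true true) (sg Fp s false false) + brK (sg Fp s true false) (sg Fp s false true) = 0

/-- type `(0,2)` : `F²`-rational -/
def RAT (Fp : LK → LK) (s : Bool → Bool → LK) : Prop := ∀ a b, Fp (Fp (s a b)) = s (!b) a

/-! ### families with three indices -/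

def SS3 (s : Bool → Bool → Bool → LK) : Prop := ∀ a b c a' b' c', brK (s a b c) (s a' b' c') = 0

def SA (Fp : LK → LK) (s : Bool → Bool → Bool → LK) : Prop :=
  ∀ a d, ∑ b : Bool, ∑ c : Bool, brK (s a b c) (Fp (s (!b) (!c) d)) = 0

def SB (Fp : LK → LK) (s : Bool → Bool → Bool → LK) : Prop :=
  ∀ b d, ∑ a : Bool, ∑ c : Bool, brK (s a b c) (Fp (Fp (s (!c) d a))) = 0

/-! ### the eliminations, as propositions (to be proved by the typists) -/

section

variable (Fp : LK → LK) (ta : LK →ₗ[KK] LK)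

/-- type R, `(0)` -/
def ElimR0 : Prop := ∀ (s : Bool → LK) (k o1 o3 r1 r2 r3 r0 : KK), RelR o1 o3 r1 r3 →
  s true = vR k o1 o3 r1 r2 r3 r0 → s false = T ta (s true) → SS1 s → INV1 Fp s → o1 = 0 ∧ o3 = 0

/-- type N, `(0,2)` -/
def ElimN02 : Prop := ∀ (k o1 o3 r1 r2 r3 r0 : KK), RelR o1 o3 r1 r3 →
  brK (vR k o1 o3 r1 r2 r3 r0) (Fp (Fp (vR k o1 o3 r1 r2 r3 r0))) = 0 → o1 = 0 ∧ o3 = 0

/-- type R, `(0,1)` : natural eigenvalue `ζ'` -/
def ElimR01 : Prop := ∀ (s : Bool → Bool → LK) (k o1 o3 r1 r2 r3 r0 K1 K2 A A2 B : KK), RelR o1 o3 r1 r3 → A * A2 = 0 →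
  s false true = vR k o1 o3 r1 r2 r3 r0 → s true true = vN K1 K2 A A2 B → (∀ a b, s (!a) (!b) = T ta (s a b)) →
  SS2 s → INV2 Fp s → SIG Fp s → o1 = 0 ∧ o3 = 0

/-- type N, `(0,1)` : natural eigenvalue `ζ' ^ 6` -/
def ElimN01 : Prop := ∀ (s : Bool → Bool → LK) (k o1 o3 r1 r2 r3 r0 K1 K2 A A2 B : KK), RelR o1 o3 r1 r3 → A * A2 = 0 →
  s true true = vR k o1 o3 r1 r2 r3 r0 → s false true = Fp (vN K1 K2 A A2 B) → (∀ a b, s (!a) (!b) = T ta (s a b)) →
  SS2 s → INV2 Fp s → SIG Fp s → o1 = 0 ∧ o3 = 0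

/-- type R, `(0,1,2)` : natural eigenvalue `ζ'`; the weights are 7, 3, 5, 1 -/
def ElimR012 : Prop := ∀ (s : Bool → Bool → Bool → LK) (k o1 o3 r1 r2 r3 r0 : KK) (K1 K2 A A2 B : ℕ → KK),
  RelR o1 o3 r1 r3 → (∀ i, A i * A2 i = 0) →
  s true true true = Fp (Fp (Fp (vN (K1 0) (K2 0) (A 0) (A2 0) (B 0)))) →
  s true false true = vN (K1 1) (K2 1) (A 1) (A2 1) (B 1) →
  s false true true = T ta (Fp (Fp (vN (K1 2) (K2 2) (A 2) (A2 2) (B 2)))) →
  s false false true = vR k o1 o3 r1 r2 r3 r0 → (∀ a b c, s a b c ≠ 0) → (∀ a b c, s (!a) (!b) (!c) = T ta (s a b c)) →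
  SS3 s → SA Fp s → SB Fp s → o1 = 0 ∧ o3 = 0

/-- type N, `(0,1,2)` : natural eigenvalue `ζ' ^ 7`; the weights are 15, 4, 1, 7 -/
def ElimN012 : Prop := ∀ (s : Bool → Bool → Bool → LK) (k o1 o3 r1 r2 r3 r0 : ℕ → KK) (K1 K2 A A2 B : KK),
  (∀ i, RelR (o1 i) (o3 i) (r1 i) (r3 i)) → A * A2 = 0 →
  s true true true = T ta (Fp (vR (k 0) (o1 0) (o3 0) (r1 0) (r2 0) (r3 0) (r0 0))) →
  s true false true = Fp (Fp (vR (k 1) (o1 1) (o3 1) (r1 1) (r2 1) (r3 1) (r0 1))) →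
  s false true true = vR (k 2) (o1 2) (o3 2) (r1 2) (r2 2) (r3 2) (r0 2) →
  s false false true = Fp (Fp (Fp (vN K1 K2 A A2 B))) → (∀ a b c, s a b c ≠ 0) → (∀ a b c, s (!a) (!b) (!c) = T ta (s a b c)) →
  SS3 s → SA Fp s → SB Fp s → ∀ i < 3, o1 i = 0 ∧ o3 i = 0

end

end Cfsg.Agent.H955.L16
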